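import Groth.Agent.GenusOneInvol.Ring

/-!
The deck transformation of a double cover of the line, in any characteristic: it exchanges the points
of every fibre.
-/

set_option autoImplicit false
set_option linter.style.haveILetI false
set_option backward.isDefEq.respectTransparency false

universe u

open CategoryTheory CategoryTheory.Limits AlgebraicGeometry TopologicalSpace Opposite
open Groth.Agent Groth.Agent.CurveRR
open Groth.Agent.W7Pencil (Pencil Hyper gm gm_injective gm_resO aeval_eq_gm pencilOf ffMap ffMap_gm)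
open Groth.Agent.QC (resO)
open scoped Polynomial

noncomputable section

namespace Groth.Agent.GenusOneInvol

attribute [local instance] secMod Curv2.stalkAlgebra Curv2.resAlgebra

/-- The map of function fields of a dominant morphism. -/
def ffHom {X Y : Scheme.{u}} [IsIntegral X] [IsIntegral Y] (f : X ⟶ Y)
    (e : f (genericPoint X) = genericPoint Y) : Y.functionField →+* X.functionField :=
  (Y.presheaf.stalkSpecializes (specializes_of_eq e) ≫ f.stalkMap (genericPoint X)).hom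

theorem ffHom_gm {X Y : Scheme.{u}} [IsIntegral X] [IsIntegral Y] (f : X ⟶ Y)
    (e : f (genericPoint X) = genericPoint Y) {U : Y.Opens}
    (h : genericPoint Y ∈ U) (h' : genericPoint X ∈ f ⁻¹ᵁ U) (a : Γ(Y, U)) :
    ffHom f e (gm h a) = gm h' ((f.app U).hom a) := by
  show (f.stalkMap (genericPoint X)).hom ((Y.presheaf.stalkSpecializes (specializes_of_eq e)).hom (gm h a)) = _
  rw [gm, TopCat.Presheaf.germ_stalkSpecializes_apply]
  exact congr($(Scheme.Hom.germ_stalkMap f U (genericPoint X) _) a)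

/-- A function on an affine preimage which comes from the function field of a normal base comes from
the base. -/
theorem exists_app_eq {X Y : Scheme.{u}} [IsIntegral X] [IsIntegral Y] (f : X ⟶ Y) [IsFinite f]
    (hY : ∀ y : Y, IsIntegrallyClosed (Y.presheaf.stalk y))
    (e : f (genericPoint X) = genericPoint Y) {D : Y.Opens} (hD : IsAffineOpen D)
    (hηD : genericPoint Y ∈ D) (hη : genericPoint X ∈ f ⁻¹ᵁ D) (N : Γ(X, f ⁻¹ᵁ D)) (w : Y.functionField)
    (hw : ffHom f e w = gm hη N) : ∃ c, (f.app D).hom c = N := by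
  haveI : Nonempty D := ⟨⟨_, hηD⟩⟩
  haveI : IsIntegrallyClosed Γ(Y, D) := NormSect.isIntegrallyClosed_sections _ fun x _ => hY x
  letI : Algebra Γ(Y, D) Y.functionField := (gm hηD).toAlgebra
  haveI : IsFractionRing Γ(Y, D) Y.functionField := functionField_isFractionRing_of_isAffineOpen Y D hD
  obtain ⟨p, hp, hpN⟩ := RingHom.IsIntegral.of_finite (f.finite_app D hD) N
  have hint : _root_.IsIntegral Γ(Y, D) w := by
    refine ⟨p, hp, (ffHom f e).injective ?_⟩
    rw [map_zero, Polynomial.hom_eval₂, hw,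
      show (ffHom f e).comp (algebraMap Γ(Y, D) Y.functionField) = (gm hη).comp (f.app D).hom from
        RingHom.ext fun c => ffHom_gm f e hηD hη c,
      ← Polynomial.hom_eval₂, hpN, map_zero]
  obtain ⟨c, hc⟩ := IsIntegrallyClosed.isIntegral_iff.mp hint
  refine ⟨c, gm_injective hη ?_⟩
  rw [← ffHom_gm f e hηD hη c, show gm hηD c = w from hc, hw]

/-- A point outside a closed point is seen by a function vanishing at the closed point. -/
theorem exists_section_separating {X : Scheme.{u}} {U : X.Opens} (hU : IsAffineOpen U) {P P' Q : X}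
    (hP : P ∈ U) (hP' : P' ∈ U) (hQ : Q ∈ U) (hQc : IsClosed ({Q} : Set X)) (h : P ≠ Q) (h' : P' ≠ Q) :
    ∃ a : Γ(X, U), P ∈ X.basicOpen a ∧ P' ∈ X.basicOpen a ∧ Q ∉ X.basicOpen a := by
  have hmem : ∀ (x : X) (hx : x ∈ U) (a : Γ(X, U)),
      x ∈ X.basicOpen a ↔ a ∉ (hU.primeIdealOf ⟨x, hx⟩).asIdeal := fun x hx a => by
    have h1 := hU.fromSpec_preimage_basicOpen a
    have h2 : hU.fromSpec (hU.primeIdealOf ⟨x, hx⟩) = x := hU.fromSpec_primeIdealOf ⟨x, hx⟩
    conv_lhs => rw [← h2]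
    exact (SetLike.ext_iff.mp h1 (hU.primeIdealOf ⟨x, hx⟩))
  have hle : ∀ (x : X) (hx : x ∈ U), x ≠ Q →
      ¬ (hU.primeIdealOf ⟨Q, hQ⟩).asIdeal ≤ (hU.primeIdealOf ⟨x, hx⟩).asIdeal := fun x hx hne hl => by
    have h1 := ((PrimeSpectrum.le_iff_specializes _ _).mp hl).map hU.fromSpec.continuous
    rw [hU.fromSpec_primeIdealOf, hU.fromSpec_primeIdealOf, specializes_iff_mem_closure, hQc.closure_eq] at h1
    exact hne h1
  by_contra! hno
  rcases Ideal.subset_union.mp (show ((hU.primeIdealOf ⟨Q, hQ⟩).asIdeal : Set Γ(X, U)) ⊆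
      ((hU.primeIdealOf ⟨P, hP⟩).asIdeal : Set Γ(X, U)) ∪ ((hU.primeIdealOf ⟨P', hP'⟩).asIdeal : Set Γ(X, U))
      from fun a ha => by
        by_contra hc
        rw [Set.mem_union, not_or] at hc
        exact (hmem Q hQ a).mp (hno a ((hmem P hP a).mpr hc.1) ((hmem P' hP' a).mpr hc.2)) ha) with h1 | h1
  · exact hle P hP h h1
  · exact hle P' hP' h' h1

variable {k : Type u} [Field k] {X : Scheme.{u}} [IsIntegral X] [X.Over (Spec (CommRingCat.of k))]
  [IsProper (X ↘ Spec (CommRingCat.of k))] {g : ℕ}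
variable [IsIntegral (CohB1.ProjSpace 1 k)] (f : X ⟶ CohB1.ProjSpace 1 k) [IsFinite f]

/-- The deck transformation of a double cover of the line. -/
theorem exists_deck (hf : f ≫ CohB1.ProjSpace.toSpec 1 k = X ↘ Spec (CommRingCat.of k))
    (e : f (genericPoint X) = genericPoint (CohB1.ProjSpace 1 k)) (H : Hyper k (pencilOf f e) g) :
    ∃ σ : X ⟶ X, σ ≫ f = f ∧ σ ≫ σ = 𝟙 X ∧
      ∀ P Q : X, IsClosed ({Q} : Set X) → f P = f Q → P ≠ Q → σ P = Q := by
  obtain ⟨y, hy, hy'⟩ := H.exists_y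
  obtain ⟨p₀, q₀, -, -, hpq⟩ := H.exists_equation hy hy'
  obtain ⟨φ, hφφ, hφfix, hφN⟩ := exists_conj H hy hy' hpq
  let U : X.Opens := (pencilOf f e).U0
  have hU : IsAffineOpen U := (pencilOf f e).aff0
  let σ0 : (U : Scheme.{u}) ⟶ X := hU.isoSpec.hom ≫ Spec.map (CommRingCat.ofHom φ) ≫ hU.fromSpec
  obtain ⟨E, hE, hEX⟩ := CycDeg.exists_chart_coord k 0
  have hcomp := W7Pencil.eval₂_eq_comp f hf e E hE hEX
  have hfix : (CommRingCat.ofHom φ : Γ(X, U) ⟶ Γ(X, U)).hom.comp (f.app (CycDeg.chartU k 0)).hom =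
      (f.app (CycDeg.chartU k 0)).hom := by
    refine RingHom.ext fun c => ?_
    have h1 := hφfix (E c)
    rw [hcomp] at h1
    show φ ((f.app (CycDeg.chartU k 0)).hom c) = (f.app (CycDeg.chartU k 0)).hom c
    conv_lhs => rw [← E.symm_apply_apply c]
    conv_rhs => rw [← E.symm_apply_apply c]
    exact h1
  have hσ0 : σ0 ≫ f = U.ι ≫ f := by
    have h1 : hU.fromSpec ≫ f = Spec.map (f.app (CycDeg.chartU k 0)) ≫ (CycDeg.isAffineOpen_chartU k 0).fromSpec := by
      rw [← Scheme.Hom.appLE_eq_app]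
      exact (IsAffineOpen.SpecMap_appLE_fromSpec f (CycDeg.isAffineOpen_chartU k 0) hU le_rfl).symm
    have h2 : (f.app (CycDeg.chartU k 0)) ≫ CommRingCat.ofHom φ = f.app (CycDeg.chartU k 0) :=
      CommRingCat.hom_ext hfix
    simp only [σ0, Category.assoc]
    rw [h1, ← Spec.map_comp_assoc, h2, ← h1, ← Category.assoc, hU.isoSpec_hom_fromSpec]
  have hlift : Limits.pullback.lift U.ι σ0 hσ0.symm ≫ Limits.pullback.fst f f = U.ι := Limits.pullback.lift_fst _ _ _
  obtain ⟨s', hs', hs'U⟩ :=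
    IntegralSect.exists_section (Limits.pullback.fst f f) H.normal U (pencilOf f e).mem0 _ hlift
  let σ := s' ≫ Limits.pullback.snd f f
  have hσf : σ ≫ f = f := by
    simp only [σ, Category.assoc, ← Limits.pullback.condition]
    rw [← Category.assoc, hs', Category.id_comp]
  have hσU : U.ι ≫ σ = σ0 := by
    simp only [σ]
    rw [← Category.assoc, hs'U, Limits.pullback.lift_snd]
  haveI : IsDominant U.ι := ⟨by
    rw [DenseRange, U.range_ι]
    exact U.2.dense ⟨_, (pencilOf f e).mem0⟩⟩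
  have hσp : σ ≫ (X ↘ Spec (CommRingCat.of k)) = X ↘ Spec (CommRingCat.of k) := by
    rw [← hf, ← Category.assoc, hσf]
  have hσσ : σ ≫ σ = 𝟙 X := by
    refine ext_of_isDominant_of_isSeparated (X ↘ Spec (CommRingCat.of k))
      (by rw [Category.assoc, hσp, hσp, Category.id_comp]) U.ι ?_
    rw [← Category.assoc, hσU]
    simp only [σ0, Category.assoc]
    rw [show hU.fromSpec ≫ σ = hU.isoSpec.inv ≫ σ0 by rw [← hσU, ← Category.assoc]; rfl]
    simp only [σ0, Iso.inv_hom_id_assoc, ← Spec.map_comp_assoc]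
    rw [show CommRingCat.ofHom φ ≫ CommRingCat.ofHom φ = 𝟙 _ from CommRingCat.hom_ext (RingHom.ext hφφ),
      Spec.map_id]
    erw [Category.id_comp, hU.isoSpec_hom_fromSpec, Category.comp_id]
  have eσ : σ (genericPoint X) = genericPoint X := by
    refine ((genericPoint_specializes (σ (genericPoint X))).antisymm ?_).eq.symm
    have h := (genericPoint_specializes (σ (genericPoint X))).map σ.continuous
    rwa [show σ (σ (genericPoint X)) = genericPoint X by rw [← Scheme.Hom.comp_apply, hσσ]; rfl] at h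
  refine ⟨σ, hσf, hσσ, fun P Q hQ hPQ hne => ?_⟩
  have hfσ : ∀ x, f (σ x) = f x := fun x => by rw [← Scheme.Hom.comp_apply, hσf]
  have hpre : U ≤ σ ⁻¹ᵁ U := fun x hx => by
    show f (σ x) ∈ CycDeg.chartU k 0
    rw [hfσ]; exact hx
  have hη0 : genericPoint X ∈ U := (pencilOf f e).mem0
  have key : (hU.fromSpec ≫ σ) = Spec.map (CommRingCat.ofHom φ) ≫ hU.fromSpec := by
    rw [show hU.fromSpec ≫ σ = hU.isoSpec.inv ≫ σ0 by rw [← hσU, ← Category.assoc]; rfl]
    simp only [σ0, Iso.inv_hom_id_assoc]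
  have hloc : σ.appLE U U hpre = CommRingCat.ofHom φ :=
    Spec.map_injective ((cancel_mono hU.fromSpec).1 ((IsAffineOpen.SpecMap_appLE_fromSpec σ hU hU hpre).trans key))
  have hσgm : ∀ a : Γ(X, U), ffMap σ eσ (gm hη0 a) = gm hη0 (φ a) := fun a => by
    rw [ffMap_gm σ eσ hη0 (hpre hη0), show φ a = (σ.appLE U U hpre).hom a by rw [hloc]; rfl]
    exact (gm_resO hpre hη0 _).symm
  have hN : ∀ a : Γ(X, U), ∃ w : (CohB1.ProjSpace 1 k).functionField,
      ffHom f e w = gm hη0 (a * φ a) := fun a => by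
    obtain ⟨r, hr⟩ := hφN a
    refine ⟨gm (W7Pencil.genericPoint_mem_chart 0) (E.symm r), ?_⟩
    refine (ffHom_gm f e _ hη0 _).trans (congrArg (gm hη0) ?_)
    rw [← hr, hcomp]
    rfl
  obtain ⟨i, hi⟩ : ∃ i : Fin 2, f P ∈ CycDeg.chartU k i := by
    rcases CycDeg.mem_chartU_cases k (f P) with h | h <;> exact ⟨_, h⟩
  set D := CycDeg.chartU k i
  have hV : IsAffineOpen (f ⁻¹ᵁ D) := (CycDeg.isAffineOpen_chartU k i).preimage f
  have hQV : Q ∈ f ⁻¹ᵁ D := by show f Q ∈ D; rw [← hPQ]; exact hi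
  have hσPV : σ P ∈ f ⁻¹ᵁ D := by show f (σ P) ∈ D; rw [hfσ]; exact hi
  by_contra hσPQ
  obtain ⟨b, hbP, hbP', hbQ⟩ := exists_section_separating hV hi hσPV hQV hQ hne hσPQ
  have hpreV : f ⁻¹ᵁ D ≤ σ ⁻¹ᵁ (f ⁻¹ᵁ D) := fun x hx => by
    show f (σ x) ∈ D
    rw [hfσ]; exact hx
  have hηV : genericPoint X ∈ f ⁻¹ᵁ D := W7Pencil.genericPoint_mem_preimage f e i
  let N : Γ(X, f ⁻¹ᵁ D) := b * resO X hpreV ((σ.app (f ⁻¹ᵁ D)).hom b)
  obtain ⟨c, hc⟩ : ∃ c, (f.app D).hom c = N := by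
    haveI : Nonempty U := ⟨⟨_, hη0⟩⟩
    letI : Algebra Γ(X, U) X.functionField := (gm hη0).toAlgebra
    haveI : IsFractionRing Γ(X, U) X.functionField := functionField_isFractionRing_of_isAffineOpen X U hU
    obtain ⟨a, a', -, haa⟩ := IsFractionRing.div_surjective (A := Γ(X, U)) (gm hηV b)
    obtain ⟨w, hw⟩ := hN a
    obtain ⟨w', hw'⟩ := hN a'
    refine exists_app_eq f (W7Cover.isIntegrallyClosed_stalk_projSpace 1) e (CycDeg.isAffineOpen_chartU k i)
      (W7Pencil.genericPoint_mem_chart i) hηV N (w / w') ?_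
    change gm hη0 a / gm hη0 a' = gm hηV b at haa
    have h2 : gm hηV (resO X hpreV ((σ.app (f ⁻¹ᵁ D)).hom b)) = ffMap σ eσ (gm hηV b) := by
      rw [ffMap_gm σ eσ hηV (hpreV hηV)]
      exact gm_resO hpreV hηV _
    rw [show gm hηV N = gm hηV b * ffMap σ eσ (gm hηV b) from (map_mul (gm hηV) _ _).trans (congrArg _ h2),
      map_div₀, hw, hw', ← haa, map_div₀, hσgm, hσgm, map_mul, map_mul, div_mul_div_comm]
  have hres : ∀ x ∈ f ⁻¹ᵁ D, σ x ∈ X.basicOpen b →
      x ∈ X.basicOpen (resO X hpreV ((σ.app (f ⁻¹ᵁ D)).hom b)) := fun x hx hxb => by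
    show x ∈ X.basicOpen ((X.presheaf.map (homOfLE hpreV).op).hom ((σ.app (f ⁻¹ᵁ D)).hom b))
    rw [Scheme.basicOpen_res, ← Scheme.preimage_basicOpen]
    exact ⟨hx, hxb⟩
  have hPN : P ∈ X.basicOpen N := by
    rw [Scheme.basicOpen_mul]
    exact ⟨hbP, hres P hi hbP'⟩
  have hQN : Q ∈ X.basicOpen N := by
    rw [← hc, ← Scheme.preimage_basicOpen] at hPN ⊢
    change f P ∈ (CohB1.ProjSpace 1 k).basicOpen c at hPN
    show f Q ∈ (CohB1.ProjSpace 1 k).basicOpen c
    rwa [← hPQ]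
  rw [Scheme.basicOpen_mul] at hQN
  exact hbQ hQN.1

end Groth.Agent.GenusOneInvol
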