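import Groth.Agent.ProjMor.Sym
import Mathlib.RingTheory.MvPolynomial.Homogeneous

/-!
A nonzero linear form on the projective line vanishes at one point only.
-/

set_option autoImplicit false
set_option backward.isDefEq.respectTransparency false
set_option backward.isDefEq.respectTransparency.types false

universe u

open CategoryTheory AlgebraicGeometry

noncomputable section

namespace Groth.Agent.GenusOneInvol

variable {k : Type u} [Field k]

theorem mk_eq_pow_mul {n N : ℕ} {p : Ideal (MvPolynomial (Fin N) k)} (v : Fin N → k)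
    (s : MvPolynomial (Fin N) k ⧸ p)
    (hs : ∀ i, Ideal.Quotient.mk p (MvPolynomial.X i) = s * algebraMap k _ (v i))
    {F : MvPolynomial (Fin N) k} (hF : F.IsHomogeneous n) :
    Ideal.Quotient.mk p F = s ^ n * algebraMap k _ (MvPolynomial.eval v F) := by
  have h : (Ideal.Quotient.mk p) = MvPolynomial.eval₂Hom (algebraMap k _) (fun i => s * algebraMap k _ (v i)) :=
    MvPolynomial.ringHom_ext (fun c => by simp; rfl) fun i => by simpa using hs i
  rw [h, MvPolynomial.coe_eval₂Hom, MvPolynomial.eval₂_eq, MvPolynomial.eval_eq, map_sum, Finset.mul_sum]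
  refine Finset.sum_congr rfl fun d hd => ?_
  rw [Finset.prod_congr rfl fun i _ => mul_pow s (algebraMap k _ (v i)) (d i), Finset.prod_mul_distrib,
    Finset.prod_pow_eq_pow_sum, hF.degree_eq_sum_deg_support hd, map_mul, map_prod]
  simp only [map_pow]
  ring

/-- The point of a nonzero linear form. -/
theorem mem_iff_eval_eq_zero (c : Fin 2 → k) (hc : c ≠ 0) (y : CohB1.ProjSpace 1 k)
    (hy : y ∉ Proj.basicOpen (CohB1.polyGrading 1 k) (ProjMor.linForms 1 k c))
    {n : ℕ} {F : MvPolynomial (Fin 2) k} (hF : F ∈ CohB1.polyGrading 1 k n) :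
    F ∈ y.asHomogeneousIdeal ↔ MvPolynomial.eval (![c 1, -c 0]) F = 0 := by
  let p : Ideal (MvPolynomial (Fin 2) k) := y.asHomogeneousIdeal.toIdeal
  haveI : p.IsPrime := y.isPrime
  let A := MvPolynomial (Fin 2) k ⧸ p
  let v : Fin 2 → k := ![c 1, -c 0]
  let x : Fin 2 → A := fun i => Ideal.Quotient.mk p (MvPolynomial.X i)
  have hl : algebraMap k A (c 0) * x 0 + algebraMap k A (c 1) * x 1 = 0 := by
    have h1 : Ideal.Quotient.mk p (ProjMor.linForms 1 k c) = 0 := Ideal.Quotient.eq_zero_iff_mem.mpr (by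
      by_contra h
      exact hy ((ProjectiveSpectrum.mem_basicOpen _ _ _).mpr h))
    rw [ProjMor.linForms, Fintype.linearCombination_apply, Fin.sum_univ_two, map_add,
      Algebra.smul_def, Algebra.smul_def, map_mul, map_mul] at h1
    exact h1
  obtain ⟨s, hs⟩ : ∃ s : A, ∀ i, x i = s * algebraMap k A (v i) := by
    by_cases h1 : c 1 = 0
    · have h0 : c 0 ≠ 0 := fun h => hc (funext fun i => by fin_cases i <;> simp [h, h1])
      have hx : x 0 = 0 := by
        rw [h1, map_zero, zero_mul, add_zero, mul_eq_zero] at hl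
        exact hl.resolve_left ((map_ne_zero_iff _ (algebraMap k A).injective).mpr h0)
      refine ⟨-(x 1 * algebraMap k A (c 0)⁻¹), fun i => ?_⟩
      fin_cases i
      · simp [v, h1, hx]
      · simp only [v, Fin.mk_one, Matrix.cons_val_one, Matrix.cons_val_fin_one, map_neg]
        rw [neg_mul_neg, mul_assoc, ← map_mul, inv_mul_cancel₀ h0, map_one, mul_one]
    · refine ⟨x 0 * algebraMap k A (c 1)⁻¹, fun i => ?_⟩
      fin_cases i
      · simp only [v, Fin.zero_eta, Matrix.cons_val_zero]
        rw [mul_assoc, ← map_mul, inv_mul_cancel₀ h1, map_one, mul_one]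
      · simp only [v, Fin.mk_one, Matrix.cons_val_one, Matrix.cons_val_fin_one]
        have hu : algebraMap k A (c 1)⁻¹ * algebraMap k A (c 1) = 1 := by
          rw [← map_mul, inv_mul_cancel₀ h1, map_one]
        rw [map_neg]
        linear_combination algebraMap k A (c 1)⁻¹ * hl - x 1 * hu
  have key : ∀ {m : ℕ} {G : MvPolynomial (Fin 2) k}, G ∈ CohB1.polyGrading 1 k m →
      (G ∈ p ↔ s ^ m * algebraMap k A (MvPolynomial.eval v G) = 0) := fun {m G} hG => by
    rw [← mk_eq_pow_mul v s hs hG, Ideal.Quotient.eq_zero_iff_mem]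
  have hs0 : s ≠ 0 := fun h0 => by
    obtain ⟨g, hg, hgy⟩ := ProjMor.exists_notMem (ProjMor.genDegOne_projSpace 1 k) y
    exact hgy ((key hg).mpr (by rw [h0, pow_one, zero_mul]))
  refine (key hF).trans ?_
  rw [mul_eq_zero, or_iff_right (pow_ne_zero n hs0), map_eq_zero_iff _ (algebraMap k A).injective]

/-- A nonzero linear form on the line vanishes at one point only. -/
theorem eq_of_notMem_basicOpen (c : Fin 2 → k) (hc : c ≠ 0) (y y' : CohB1.ProjSpace 1 k)
    (hy : y ∉ Proj.basicOpen (CohB1.polyGrading 1 k) (ProjMor.linForms 1 k c))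
    (hy' : y' ∉ Proj.basicOpen (CohB1.polyGrading 1 k) (ProjMor.linForms 1 k c)) : y = y' :=
  ProjectiveSpectrum.ext (HomogeneousIdeal.ext' fun _ _ hF =>
    (mem_iff_eval_eq_zero c hc y hy hF).trans (mem_iff_eval_eq_zero c hc y' hy' hF).symm)

end Groth.Agent.GenusOneInvol
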