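import Groth.Agent.GenusOneInvol.Deck
import Groth.Agent.GenusOneInvol.LineForm
import Groth.Agent.CurveOmega.RatPt
import Groth.Agent.CurveOmega.BarCrit

/-!
The involution of a genus one curve attached to an invertible module of degree two.
-/

set_option autoImplicit false
set_option linter.style.haveILetI false
set_option backward.isDefEq.respectTransparency false
set_option backward.isDefEq.respectTransparency.types false

universe u

open CategoryTheory CategoryTheory.Limits AlgebraicGeometry TopologicalSpace Opposite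
open Groth.Agent Groth.Agent.CohFinite Groth.Agent.CurveRR
open Groth.Agent.QC (res resO res_res res_smul app_res res_self)
open TMul (IsGen homOf val_homOf tm)

noncomputable section

namespace Groth.Agent.GenusOneInvol

section Locus

variable {X : Scheme.{u}} {L N : X.Modules}

/-- Where the image of a section generates, the section generates. -/
theorem mem_genLocus_of_app (hN : PicF.IsInvertible N) (hL : PicF.IsInvertible L) (φ : N ⟶ L) (u : Γ(N, ⊤))
    {z : X} (hz : z ∈ CohB1.genLocus L (homOf (φ.app ⊤ u))) : z ∈ CohB1.genLocus N (homOf u) := by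
  obtain ⟨D₁, e₁, h₁, he⟩ := TMul.exists_isGen hN z
  obtain ⟨D₂, g₂, h₂, hg⟩ := TMul.exists_isGen hL z
  let W := D₁ ⊓ D₂
  let e : Γ(N, W) := res N inf_le_left e₁
  let g : Γ(L, W) := res L inf_le_right g₂
  have heW : IsGen e := he.res inf_le_left
  have hgW : IsGen g := hg.res inf_le_right
  obtain ⟨c, hc⟩ := (heW W le_rfl).2 (res N le_top u)
  obtain ⟨d, hd⟩ := (hgW W le_rfl).2 (φ.app W e)
  change c • res N le_rfl e = _ at hc
  change d • res L le_rfl g = _ at hd
  rw [res_self] at hc hd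
  have hu := (TMul.mem_genLocus_iff_isUnit _ hgW (c := c * d)
    (by rw [val_homOf, app_res, ← hc, TMul.app_smul, ← hd, mul_smul]) (show z ∈ W from ⟨h₁, h₂⟩)).mp hz
  rw [map_mul] at hu
  exact (TMul.mem_genLocus_iff_isUnit _ heW (by rw [val_homOf, hc]) _).mpr (isUnit_of_mul_isUnit_left hu)

/-- Off a closed set, a generator of `I ⊗ L` gives a generator of `L`. -/
theorem mem_genLocus_idealIncl (hL : PicF.IsInvertible L) (Z : Closeds X)
    (u : Γ(CohB1.tensorMod (ClSub.idealMod (Scheme.IdealSheafData.vanishingIdeal Z)) L, ⊤))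
    {z : X} (hz : z ∉ (Z : Set X)) (hzu : z ∈ CohB1.genLocus _ (homOf u)) :
    z ∈ CohB1.genLocus L (homOf ((idealIncl (Scheme.IdealSheafData.vanishingIdeal Z) L).app ⊤ u)) := by
  let I := Scheme.IdealSheafData.vanishingIdeal Z
  obtain ⟨D, g, hzD, hg⟩ := TMul.exists_isGen hL z
  let G := CohB1.genLocus _ (homOf u)
  let D' : X.Opens := D ⊓ ⟨(Z : Set X)ᶜ, Z.isClosed.isOpen_compl⟩ ⊓ G
  obtain ⟨W, hW, hzW, hWD⟩ := exists_isAffineOpen_mem_and_subset (x := z) (U := D') ⟨⟨hzD, hz⟩, hzu⟩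
  have hWD₁ : W ≤ D := fun x hx => (hWD hx).1.1
  have hWG : W ≤ G := fun x hx => (hWD hx).2
  have hideal : (1 : Γ(X, W)) ∈ I.ideal ⟨W, hW⟩ := by
    simp only [I, Scheme.IdealSheafData.vanishingIdeal_ideal]
    rw [show hW.fromSpec ⁻¹' (Z : Set X) = ∅ from Set.eq_empty_of_forall_notMem fun p hp =>
      (hWD (hW.range_fromSpec.le ⟨p, rfl⟩)).1.2 hp, PrimeSpectrum.vanishingIdeal_empty]
    trivial
  obtain ⟨a, ha⟩ := (Groth.Agent.QC.mem_range_idealModι_affine I ⟨W, hW⟩ _).mpr hideal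
  obtain ⟨w, hw⟩ := (TMul.tm_bijective (M := ClSub.idealMod I) (hg.res hWD₁) W le_rfl).2 (res _ le_top u)
  change tm w (res L le_rfl (res L hWD₁ g)) = _ at hw
  rw [res_self] at hw
  let c : Γ(X, W) := (ClSub.idealModι I).app W w
  have hc : (idealIncl I L).app W (res _ le_top u) = c • res L hWD₁ g := by
    rw [← hw, idealIncl_tm]
  obtain ⟨b, hb⟩ := (TMul.isGen_genLocus (homOf u) W hWG).2 (tm a (res L hWD₁ g))
  change b • res _ hWG (TMul.val (homOf u) G) = _ at hb
  rw [TMul.res_val, val_homOf] at hb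
  have h1 : (idealIncl I L).app W (b • res _ le_top u) = b • (c • res L hWD₁ g) := by
    rw [TMul.app_smul, hc]
  have h2 : (idealIncl I L).app W (b • res _ le_top u) = (1 : Γ(X, W)) • res L hWD₁ g := by
    rw [hb, idealIncl_tm]
    exact congrArg (· • res L hWD₁ g) ha
  have hu : IsUnit c := by
    refine IsUnit.of_mul_eq_one b ?_
    rw [mul_comm]
    refine ((hg.res hWD₁) W le_rfl).1 ?_
    show (b * c) • res L le_rfl (res L hWD₁ g) = (1 : Γ(X, W)) • res L le_rfl (res L hWD₁ g)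
    rw [res_self, mul_smul, ← h1, h2]
  refine (TMul.mem_genLocus_iff_isUnit _ (hg.res hWD₁) (c := c) ?_ hzW).mpr (hu.map (X.presheaf.germ W z hzW).hom)
  rw [val_homOf, app_res]
  exact hc

end Locus

attribute [local instance] secMod Curv2.resAlgebra

variable {k : Type u} [Field k] {X : Scheme.{u}} [X.Over (Spec (CommRingCat.of k))]
  [IsProper (X ↘ Spec (CommRingCat.of k))] [IsIntegral X] [Smooth (X ↘ Spec (CommRingCat.of k))]

/-- The involution `R ↦ R'` with `R + R'` in a given linear series of degree two. -/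
theorem exists_involution_cover [IsAlgClosed k] (hdim : topologicalKrullDim X = 1)
    (h0 : h k (Coh.structureModule X) 0 = 1) (hg : Curv2.genus k X = 1)
    {L : X.Modules} (hL : PicF.IsInvertible L) (hdeg : Curv2.deg k X L 1 = 2) :
    ∃ (f : X ⟶ CohB1.ProjSpace 1 k) (σ : X ⟶ X), f ≫ CohB1.ProjSpace.toSpec 1 k = X ↘ Spec (CommRingCat.of k) ∧
      IsFinite f ∧ Flat f ∧
      f.residueDegree (genericPoint X) = 2 ∧ σ ≫ f = f ∧
      (∀ R R' : X, IsClosed ({R'} : Set X) → f R = f R' → R ≠ R' → σ R = R') ∧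
      σ ≫ (X ↘ Spec (CommRingCat.of k)) = X ↘ Spec (CommRingCat.of k) ∧ σ ≫ σ = 𝟙 X ∧
      ∀ (R R' : X) (hR : IsClosed ({R} : Set X)) (hR' : IsClosed ({R'} : Set X)),
        Nonempty (CohB1.tensorMod (ClSub.idealMod (Scheme.IdealSheafData.vanishingIdeal ⟨{R}, hR⟩))
          (CohB1.tensorMod (ClSub.idealMod (Scheme.IdealSheafData.vanishingIdeal ⟨{R'}, hR'⟩)) L) ≅
          Coh.structureModule X) ↔ σ R = R' := by
  haveI := isNoetherian_of_proper k X
  haveI := Horrocks.isIntegral_projSpace (k := k) (n := 1)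
  have hh : h k L 0 = 2 := by
    have := h0_eq_of_deg (k := k) hdim.le h0 hL (by rw [hdeg, hg]; norm_num)
    rw [hdeg, hg] at this
    omega
  haveI := finite_proper k X _ (isCoh_of_inv hL) 0
  haveI : Module.Finite k Γ(L, ⊤) := Module.Finite.equiv (secH0 (k := k) L).symm
  let b : Module.Basis (Fin (1 + 1)) k Γ(L, ⊤) :=
    (Module.finBasis k Γ(L, ⊤)).reindex (finCongr ((finrank_sec L).trans hh))
  obtain ⟨f, hf, τ, hτ⟩ := ProjMor.exists_projSpace (X ↘ Spec (CommRingCat.of k)) hL (fun i => b i)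
    (CurveVA.generatedBy_of_basis b fun x => by
      obtain ⟨z, hz, hzc⟩ := (isClosed_closure (s := ({x} : Set X))).exists_closed_singleton ⟨x, subset_closure rfl⟩
      obtain ⟨t, ht⟩ := W7Cover.exists_mem_genLocus_deg_two hdim h0 hg.ge hL hdeg hh hzc
      exact ⟨t, (specializes_iff_mem_closure.mpr hz).mem_open (CohB1.genLocus L (homOf t)).2 ht⟩)
  let τ' : CurveVA.O1 f ≅ L := τ
  have hO := CurveVA.isInvertible_O1 f
  have hdegO : Curv2.deg k X (CurveVA.O1 f) 1 = 2 := by
    rw [← hdeg, Curv2.deg, Curv2.deg, euler_eq_of_iso τ']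
  obtain ⟨hfin, hflat, he, hr, -⟩ := W7Cover.cover_facts f hdim hf (by omega)
  haveI := hfin
  have H := W7Pencil.hyper_of_cover f hdim h0 hg hf he (by omega)
  obtain ⟨σ, hσf, hσσ, hσtr⟩ := exists_deck f hf he H
  have hσp : σ ≫ (X ↘ Spec (CommRingCat.of k)) = X ↘ Spec (CommRingCat.of k) := by
    rw [← hf, ← Category.assoc, hσf]
  have hinvI : ∀ (R : X) (hR : IsClosed ({R} : Set X)),
      PicF.IsInvertible (ClSub.idealMod (Scheme.IdealSheafData.vanishingIdeal ⟨{R}, hR⟩)) := fun R hR =>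
    isInvertible_pointIdeal hdim.le hR (genericPoint_ne_of_closed (k := k) hdim hR)
      (SmLocalST.isRegularLocalRing_stalk_of_smooth_field (X ↘ Spec (CommRingCat.of k)) R)
  have key : ∀ (R R' : X) (hR : IsClosed ({R} : Set X)) (hR' : IsClosed ({R'} : Set X)),
      Nonempty (CohB1.tensorMod (ClSub.idealMod (Scheme.IdealSheafData.vanishingIdeal ⟨{R}, hR⟩))
        (CohB1.tensorMod (ClSub.idealMod (Scheme.IdealSheafData.vanishingIdeal ⟨{R'}, hR'⟩)) L) ≅
        Coh.structureModule X) → σ R = R' := by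
    rintro R R' hR hR' ⟨ε₀⟩
    let I := Scheme.IdealSheafData.vanishingIdeal ⟨{R}, hR⟩
    let I' := Scheme.IdealSheafData.vanishingIdeal ⟨{R'}, hR'⟩
    let M := CohB1.tensorMod (ClSub.idealMod I') (CurveVA.O1 f)
    have hM : PicF.IsInvertible M := TMul.isInvertible_tensorMod (hinvI R' hR') hO
    let ε : CohB1.tensorMod (ClSub.idealMod I) M ≅ Coh.structureModule X :=
      PicGrp.tensorModIso (Iso.refl _) (PicGrp.tensorModIso (Iso.refl _) τ') ≪≫ ε₀
    let u : Γ(CohB1.tensorMod (ClSub.idealMod I) M, ⊤) := TMul.val ε.inv ⊤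
    haveI : IsIso (homOf u) := by
      rw [show homOf u = ε.inv from TMul.hom_ext_val ((val_homOf u ⊤).trans (res_self _ _ _))]
      infer_instance
    let u₁ : Γ(M, ⊤) := (idealIncl I M).app ⊤ u
    let t : Γ(CurveVA.O1 f, ⊤) := (idealIncl I' (CurveVA.O1 f)).app ⊤ u₁
    have hout : ∀ z, z ≠ R → z ≠ R' → z ∈ CohB1.genLocus _ (homOf t) := fun z h h' =>
      mem_genLocus_idealIncl hO ⟨{R'}, hR'⟩ u₁ h' (CurveOmega.mem_genLocus_idealIncl hM ⟨{R}, hR⟩ h)
    have hR't : R' ∉ CohB1.genLocus _ (homOf t) := notMem_genLocus_idealIncl hO I' u₁ (by simp [I'])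
    have hRt : R ∉ CohB1.genLocus _ (homOf t) := fun h =>
      notMem_genLocus_idealIncl hM I u (z := R) (by simp [I]) (mem_genLocus_of_app hM hO _ u₁ h)
    obtain ⟨c, hc⟩ := CurveOmega.exists_linForms hf b τ hτ t
    have hloc : ∀ z, z ∈ CohB1.genLocus _ (homOf t) ↔
        f z ∈ Proj.basicOpen (CohB1.polyGrading 1 k) (ProjMor.linForms 1 k c) := fun z => by
      rw [hc, ProjMor.genLocus_pull1 (ProjMor.genDegOne_projSpace 1 k) f]
      rfl
    have hc0 : c ≠ 0 := fun h => by
      have h1 := (hloc (genericPoint X)).mp (hout _ (genericPoint_ne_of_closed (k := k) hdim hR)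
        (genericPoint_ne_of_closed (k := k) hdim hR'))
      rw [h, map_zero] at h1
      exact (ProjectiveSpectrum.mem_basicOpen _ _ _).mp h1 (zero_mem _)
    have hff : f R = f R' := eq_of_notMem_basicOpen c hc0 _ _ (fun h => hRt ((hloc R).mpr h))
      (fun h => hR't ((hloc R').mpr h))
    by_cases hRR : R = R'
    · subst hRR
      by_contra hne
      have h1 := hout (σ R) hne hne
      rw [hloc, show f (σ R) = f R by rw [← Scheme.Hom.comp_apply, hσf]] at h1
      exact hRt ((hloc R).mpr h1)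
    · exact hσtr R R' hR' hff hRR
  refine ⟨f, σ, hf, hfin, hflat, by omega, hσf, hσtr, hσp, hσσ, fun R R' hR hR' => ⟨key R R' hR hR', fun hσR => ?_⟩⟩
  let I := Scheme.IdealSheafData.vanishingIdeal ⟨{R}, hR⟩
  have hIL : PicF.IsInvertible (CohB1.tensorMod (ClSub.idealMod I) L) :=
    TMul.isInvertible_tensorMod (hinvI R hR) hL
  have hd1 : Curv2.deg k X (CohB1.tensorMod (ClSub.idealMod I) L) 1 = 1 := by
    rw [Curv2.deg, euler_ideal_tensor (k := k) hL I (point_dim hR), h0_quotMod_point hR]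
    rw [Curv2.deg] at hdeg
    push_cast
    omega
  have hh1 : h k (CohB1.tensorMod (ClSub.idealMod I) L) 0 = 1 := by
    have := h0_eq_of_deg (k := k) hdim.le h0 hIL (by rw [hd1, hg]; norm_num)
    rw [hd1, hg] at this
    omega
  obtain ⟨R₁, hR₁, -, ⟨ε⟩⟩ := CurveOmega.exists_point_of_deg_one (k := k) hdim hIL hd1 (by omega)
  have hswap : CohB1.tensorMod (ClSub.idealMod I)
      (CohB1.tensorMod (ClSub.idealMod (Scheme.IdealSheafData.vanishingIdeal ⟨{R₁}, hR₁⟩)) L) ≅ Coh.structureModule X :=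
    (TMul.assocIso _ _ _).symm ≪≫ PicGrp.tensorModIso (TMul.commIso _ _) (Iso.refl L) ≪≫ TMul.assocIso _ _ _ ≪≫ ε
  obtain rfl : R' = R₁ := hσR.symm.trans (key R R₁ hR hR₁ ⟨hswap⟩)
  exact ⟨hswap⟩

/-- The involution attached to an invertible module of degree two. -/
theorem exists_involution [IsAlgClosed k] (hdim : topologicalKrullDim X = 1)
    (h0 : h k (Coh.structureModule X) 0 = 1) (hg : Curv2.genus k X = 1)
    {L : X.Modules} (hL : PicF.IsInvertible L) (hdeg : Curv2.deg k X L 1 = 2) :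
    ∃ σ : X ⟶ X, σ ≫ (X ↘ Spec (CommRingCat.of k)) = X ↘ Spec (CommRingCat.of k) ∧ σ ≫ σ = 𝟙 X ∧
      ∀ (R R' : X) (hR : IsClosed ({R} : Set X)) (hR' : IsClosed ({R'} : Set X)),
        Nonempty (CohB1.tensorMod (ClSub.idealMod (Scheme.IdealSheafData.vanishingIdeal ⟨{R}, hR⟩))
          (CohB1.tensorMod (ClSub.idealMod (Scheme.IdealSheafData.vanishingIdeal ⟨{R'}, hR'⟩)) L) ≅
          Coh.structureModule X) ↔ σ R = R' := by
  obtain ⟨f, σ, -, -, -, -, -, -, hσp, hσσ, hiff⟩ := exists_involution_cover hdim h0 hg hL hdeg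
  exact ⟨σ, hσp, hσσ, hiff⟩

end Groth.Agent.GenusOneInvol
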