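import Groth.Agent.W7Pencil.Affine
import Groth.Agent.W7Pencil.Invol
import Groth.Agent.W7Pencil.Deck

/-!
The conjugation of the affine ring of a double cover in any characteristic.
-/

set_option autoImplicit false
set_option linter.style.haveILetI false
set_option backward.isDefEq.respectTransparency false

universe u

open CategoryTheory CategoryTheory.Limits AlgebraicGeometry TopologicalSpace Opposite
open Groth.Agent Groth.Agent.CurveRR
open Groth.Agent.W7Pencil (Pencil Hyper gm gm_injective aeval_eq_gm)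
open scoped Polynomial

noncomputable section

namespace Groth.Agent.GenusOneInvol

attribute [local instance] secMod Curv2.stalkAlgebra Curv2.resAlgebra

variable {k : Type u} [Field k] {X : Scheme.{u}} [IsIntegral X] [X.Over (Spec (CommRingCat.of k))]
  [IsProper (X ↘ Spec (CommRingCat.of k))] {L : X.Modules} {P : Pencil L} {g : ℕ}

/-- The conjugation of a quadratic equation, with its norms and fixed constants. -/
theorem exists_conj (H : Hyper k P g) {y : X.functionField} (hy : y ∈ P.space k (g + 1))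
    (hy' : y ∉ P.polys k (g + 1)) {p₀ q₀ : k[X]}
    (h : y ^ 2 + Polynomial.aeval P.T q₀ * y = Polynomial.aeval P.T p₀) :
    ∃ φ : Γ(X, P.U0) →+* Γ(X, P.U0), (∀ a, φ (φ a) = a) ∧
      (∀ a : k[X], φ (Polynomial.eval₂RingHom (cst k X P.U0) P.t a) = Polynomial.eval₂RingHom (cst k X P.U0) P.t a) ∧
      ∀ a, ∃ r : k[X], Polynomial.eval₂RingHom (cst k X P.U0) P.t r = a * φ a := by
  obtain ⟨ay, by', hay, -⟩ := id hy
  let Φ : MvPolynomial (Fin 2) k →+* Γ(X, P.U0) := MvPolynomial.eval₂Hom (cst k X P.U0) ![P.t, ay]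
  let e : k[X] →+* MvPolynomial (Fin 2) k := (Polynomial.aeval (MvPolynomial.X 0)).toRingHom
  let ι : MvPolynomial (Fin 2) k →+* MvPolynomial (Fin 2) k :=
    MvPolynomial.eval₂Hom MvPolynomial.C ![MvPolynomial.X 0, -MvPolynomial.X 1 - e q₀]
  have hΦ : ∀ a : k[X], Φ (e a) = Polynomial.eval₂RingHom (cst k X P.U0) P.t a := by
    intro a
    show Φ (Polynomial.aeval (MvPolynomial.X 0) a) = _
    rw [Polynomial.aeval_def, Polynomial.hom_eval₂, Polynomial.coe_eval₂RingHom]
    congr 1
    · exact RingHom.ext fun c => by simp [Φ, MvPolynomial.algebraMap_eq]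
    · simp [Φ]
  have hΦ' : ∀ a : k[X], gm P.mem0 (Φ (e a)) = Polynomial.aeval P.T a := fun a => by
    rw [hΦ, ← aeval_eq_gm]
  have hι : ∀ a : k[X], ι (e a) = e a := by
    intro a
    show ι (Polynomial.aeval (MvPolynomial.X 0) a) = Polynomial.aeval (MvPolynomial.X 0) a
    rw [Polynomial.aeval_def, Polynomial.hom_eval₂]
    congr 1
    · exact RingHom.ext fun c => by simp [ι, MvPolynomial.algebraMap_eq]
    · simp [ι]
  have hΦy : gm P.mem0 (Φ (MvPolynomial.X 1)) = y := by simp [Φ, hay]
  have hιy : ι (MvPolynomial.X 1) = -MvPolynomial.X 1 - e q₀ := by simp [ι]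
  have hval : ∀ p q : k[X], gm P.mem0 (Φ (e p + e q * MvPolynomial.X 1)) =
      Polynomial.aeval P.T p + Polynomial.aeval P.T q * y := fun p q => by
    rw [map_add, map_add, map_mul, map_mul, hΦ', hΦ', hΦy]
  have hform : ∀ s, ∃ p q : k[X], s = Φ (e p + e q * MvPolynomial.X 1) := fun s => by
    obtain ⟨p, q, hpq⟩ := H.exists_normal_form_sections hy hy' s
    exact ⟨p, q, gm_injective P.mem0 (hpq.trans (hval p q).symm)⟩
  have hsurj : Function.Surjective Φ := fun s => let ⟨p, q, hs⟩ := hform s; ⟨_, hs.symm⟩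
  let E : MvPolynomial (Fin 2) k := MvPolynomial.X 1 ^ 2 + e q₀ * MvPolynomial.X 1 - e p₀
  have hE : gm P.mem0 (Φ E) = 0 := by
    simp only [E, map_sub, map_add, map_mul, map_pow, hΦ', hΦy, h, sub_self]
  have hιE : ι E = E := by
    simp only [E, map_sub, map_add, map_mul, map_pow, hι, hιy]
    ring
  have hker : RingHom.ker Φ ≤ RingHom.ker (Φ.comp ι) := by
    intro F hF
    obtain ⟨p, q, hpq⟩ := W7Pencil.exists_linear_form p₀ q₀ F
    obtain ⟨c, hc⟩ := Ideal.mem_span_singleton'.1 hpq
    change c * E = F - (e p + e q * MvPolynomial.X 1) at hc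
    have e1 : Polynomial.aeval P.T p + Polynomial.aeval P.T q * y = 0 := by
      have := congrArg (fun G => gm P.mem0 (Φ G)) hc
      simp only [map_mul, map_sub Φ F, RingHom.mem_ker.1 hF, hE, mul_zero, zero_sub] at this
      rw [map_neg, hval] at this
      exact neg_eq_zero.1 this.symm
    have hq : q = 0 := by
      by_contra hq
      exact H.notMem_range hy hy' (p := -p) hq (by rw [map_neg]; linear_combination e1)
    have hp : p = 0 := H.aeval_injective (by simpa [hq] using e1)
    rw [hp, hq, map_zero, zero_mul, add_zero, sub_zero] at hc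
    rw [RingHom.mem_ker, RingHom.comp_apply, ← hc, map_mul, map_mul, hιE]
    exact mul_eq_zero_of_right _ (gm_injective P.mem0 (hE.trans (map_zero _).symm))
  let φ := RingHom.liftOfSurjective Φ hsurj ⟨Φ.comp ι, hker⟩
  have hφ : ∀ F, φ (Φ F) = Φ (ι F) := fun F => RingHom.liftOfRightInverse_comp_apply Φ _ _ ⟨Φ.comp ι, hker⟩ F
  refine ⟨φ, fun a => ?_, fun a => ?_, fun a => ?_⟩
  · obtain ⟨F, rfl⟩ := hsurj a
    rw [hφ, hφ]
    refine congrArg Φ (RingHom.congr_fun (f := ι.comp ι) (g := RingHom.id _) ?_ F)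
    refine MvPolynomial.ringHom_ext (fun c => by simp [ι]) fun i => ?_
    fin_cases i
    · simp [ι]
    · show ι (ι (MvPolynomial.X 1)) = _
      rw [hιy, map_sub, map_neg, hιy, hι]
      simp
  · rw [← hΦ, hφ, hι]
  · obtain ⟨p, q, rfl⟩ := hform a
    refine ⟨p ^ 2 - p * q * q₀ - q ^ 2 * p₀, gm_injective P.mem0 ?_⟩
    rw [← hΦ, hφ, ← map_mul, hΦ']
    simp only [map_sub, map_add, map_mul, map_neg, map_pow, hι, hιy, hΦ', hΦy]
    linear_combination ((Polynomial.aeval P.T q) ^ 2 : X.functionField) * h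

end Groth.Agent.GenusOneInvol
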