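import Groth.Agent.GenusOneInvol.Points
import Groth.Agent.CurveOmega.General
import Groth.Agent.W7Hull.InvDual
import Groth.Agent.W7OnePole.ClosedPoint

/-!
The involution of a genus one curve exchanging two points, and the infinity of closed points.
-/

set_option autoImplicit false
set_option linter.style.haveILetI false
set_option backward.isDefEq.respectTransparency false
set_option backward.isDefEq.respectTransparency.types false

universe u

open CategoryTheory CategoryTheory.Limits AlgebraicGeometry TopologicalSpace Opposite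
open Groth.Agent Groth.Agent.CohFinite Groth.Agent.CurveRR

noncomputable section

namespace Groth.Agent.GenusOneInvol

variable {k : Type u} [Field k] [IsAlgClosed k] {X : Scheme.{u}} [X.Over (Spec (CommRingCat.of k))]
  [IsProper (X ↘ Spec (CommRingCat.of k))] [IsIntegral X] [Smooth (X ↘ Spec (CommRingCat.of k))]

theorem exists_swap (hdim : topologicalKrullDim X = 1) (hg : Curv2.genus k X = 1)
    (P Q : X) (hP : IsClosed ({P} : Set X)) (hQ : IsClosed ({Q} : Set X)) :
    ∃ σ : X ≅ X, σ.hom ≫ (X ↘ (Spec (CommRingCat.of k))) = (X ↘ (Spec (CommRingCat.of k))) ∧ σ.hom ≫ σ.hom = 𝟙 X ∧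
      σ.hom P = Q ∧ ∀ (R R' : X) (hR : IsClosed ({R} : Set X)) (hR' : IsClosed ({R'} : Set X)), σ.hom R = R' →
        Nonempty (CohB1.tensorMod (ClSub.idealMod (Scheme.IdealSheafData.vanishingIdeal ⟨{R}, hR⟩))
          (ClSub.idealMod (Scheme.IdealSheafData.vanishingIdeal ⟨{R'}, hR'⟩)) ≅
          CohB1.tensorMod (ClSub.idealMod (Scheme.IdealSheafData.vanishingIdeal ⟨{P}, hP⟩))
            (ClSub.idealMod (Scheme.IdealSheafData.vanishingIdeal ⟨{Q}, hQ⟩))) := by
  haveI := isNoetherian_of_proper k X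
  have h0 := CurveRR.h0_structure k X
  let IP := Scheme.IdealSheafData.vanishingIdeal ⟨{P}, hP⟩
  let IQ := Scheme.IdealSheafData.vanishingIdeal ⟨{Q}, hQ⟩
  have hinvI : ∀ (R : X) (hR : IsClosed ({R} : Set X)),
      PicF.IsInvertible (ClSub.idealMod (Scheme.IdealSheafData.vanishingIdeal ⟨{R}, hR⟩)) := fun R hR =>
    isInvertible_pointIdeal hdim.le hR (genericPoint_ne_of_closed (k := k) hdim hR)
      (SmLocalST.isRegularLocalRing_stalk_of_smooth_field (X ↘ Spec (CommRingCat.of k)) R)
  have hPQ : PicF.IsInvertible (CohB1.tensorMod (ClSub.idealMod IP) (ClSub.idealMod IQ)) :=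
    TMul.isInvertible_tensorMod (hinvI P hP) (hinvI Q hQ)
  obtain ⟨L, hL, ⟨θ⟩⟩ := W7Hull.exists_tensor_inverse hPQ
  have hdeg : Curv2.deg k X L 1 = 2 := by
    have hQL : PicF.IsInvertible (CohB1.tensorMod (ClSub.idealMod IQ) L) := TMul.isInvertible_tensorMod (hinvI Q hQ) hL
    have e1 := euler_ideal_tensor (k := k) hQL IP (point_dim hP)
    have e2 := euler_ideal_tensor (k := k) hL IQ (point_dim hQ)
    rw [h0_quotMod_point hP, euler_eq_of_iso ((TMul.assocIso _ _ _).symm ≪≫ θ), e2, h0_quotMod_point hQ] at e1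
    rw [Curv2.deg]
    push_cast at *
    omega
  obtain ⟨σ, hσp, hσσ, hiff⟩ := exists_involution hdim h0 hg hL hdeg
  refine ⟨⟨σ, σ, hσσ, hσσ⟩, hσp, hσσ, (hiff P Q hP hQ).mp ⟨(TMul.assocIso _ _ _).symm ≪≫ θ⟩, ?_⟩
  intro R R' hR hR' hσR
  obtain ⟨ε⟩ := (hiff R R' hR hR').mpr hσR
  exact ⟨(SecTwist.unitorR _).symm ≪≫ PicGrp.tensorModIso (Iso.refl _) (θ.symm ≪≫ TMul.commIso _ _) ≪≫
    (TMul.assocIso _ _ _).symm ≪≫ PicGrp.tensorModIso (TMul.assocIso _ _ _ ≪≫ ε) (Iso.refl _) ≪≫
    TMul.leftUnitIso _⟩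

omit [IsAlgClosed k] [Smooth (X ↘ Spec (CommRingCat.of k))] in
include k in
theorem infinite_closedPoints (hdim : topologicalKrullDim X = 1) : (closedPoints X).Infinite := by
  intro hfin
  haveI : JacobsonSpace X := LocallyOfFiniteType.jacobsonSpace (X ↘ Spec (CommRingCat.of k))
  have hcl : IsClosed (closedPoints X) := by
    rw [← Set.biUnion_of_singleton (closedPoints X)]
    exact hfin.isClosed_biUnion fun x hx => hx
  have huniv := closure_closedPoints (X := X)
  rw [hcl.closure_eq] at huniv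
  exact genericPoint_ne_of_closed (k := k) hdim (huniv.ge (Set.mem_univ (genericPoint X))) rfl

end Groth.Agent.GenusOneInvol
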