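/-
Two maps of degree two from a curve of genus one to the line differ by automorphisms.
-/
import Groth.Agent.GenusOneInvol.Swap
import Groth.Agent.W7Pencil.DeckFixed
import Groth.Agent.W7Pencil.FieldDeg
import Groth.Agent.DualGeneric.PointDeg
import Groth.Agent.AlmostBlow.Basic
import Groth.Agent.Nakai.PullIdeal
import Groth.Agent.ModDesc.Sect
import Groth.Agent.W7Cover.Degree
import Groth.Agent.P1Split.Main

set_option autoImplicit false
set_option linter.style.haveILetI false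
set_option linter.unusedSectionVars false
set_option backward.isDefEq.respectTransparency false
set_option backward.isDefEq.respectTransparency.types false

universe u

open CategoryTheory CategoryTheory.Limits AlgebraicGeometry TopologicalSpace Opposite
open Groth.Agent Groth.Agent.CohFinite Groth.Agent.CurveRR
open Groth.Agent.QC (res res_res res_smul res_self)
open TMul (homOf val_homOf)

noncomputable section

namespace Groth.Agent.GenusOneInvol

attribute [local instance] secMod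

variable {k : Type u} [Field k] [IsAlgClosed k] {X : Scheme.{u}} [X.Over (Spec (CommRingCat.of k))]
  [IsProper (X ↘ Spec (CommRingCat.of k))] [Smooth (X ↘ Spec (CommRingCat.of k))] [IsIntegral X]

/-- Away from two, an invertible module of degree two has a square root point. -/
theorem exists_double_point (h2 : (2 : k) ≠ 0) (hdim : topologicalKrullDim X = 1) (hg : Curv2.genus k X = 1)
    {L : X.Modules} (hL : PicF.IsInvertible L) (hdeg : Curv2.deg k X L 1 = 2) :
    ∃ (A : X) (hA : IsClosed ({A} : Set X)),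
      Nonempty (CohB1.tensorMod (ClSub.idealMod (Scheme.IdealSheafData.vanishingIdeal ⟨{A}, hA⟩))
        (CohB1.tensorMod (ClSub.idealMod (Scheme.IdealSheafData.vanishingIdeal ⟨{A}, hA⟩)) L) ≅
          Coh.structureModule X) := by
  haveI := isNoetherian_of_proper k X
  haveI := Horrocks.isIntegral_projSpace (k := k) (n := 1)
  have h0 := h0_structure k X
  obtain ⟨f, σ, hf, hfin, hflat, hr, hσf, hσtr, hσp, hσσ, hiff⟩ := exists_involution_cover hdim h0 hg hL hdeg
  haveI := hfin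
  haveI := hflat
  obtain ⟨he, -⟩ := W7Pencil.deg_O1_of_cover f hdim hf
  have hrat : ∀ x : X, IsClosed ({x} : Set X) →
      (letI := Curv2.resAlgebra k X x; Module.finrank k (X.residueField x)) = 1 := fun x hx => by
    obtain ⟨t, ht, htx⟩ := W7OnePole.exists_section_of_closed (X ↘ Spec (CommRingCat.of k)) hx
    exact (DualGeneric.h0_quotMod_residue k hx).symm.trans (h0_quotMod_ratPoint (k := k) hx t ht htx)
  have H := W7Pencil.hyper_of_cover f hdim h0 hg hf he hr
  obtain ⟨y, R, hy, hy', hR, hR', hy2⟩ := H.exists_square_equation h2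
  obtain ⟨τ, hτf, hττ, eτ, hτy⟩ := W7Pencil.exists_deck f hf he H hy hy' hy2
  have hcard := W7Pencil.card_fixedPoints_deck f h2 hdim hf he H hrat hy hy' hR hR' hy2 τ hτf eτ hτy
  let F : Set X := {x | IsClosed ({x} : Set X) ∧ τ x = x}
  have hF : F.Finite := Set.finite_coe_iff.1 (Nat.finite_of_card_ne_zero (α := F) (by
    show Nat.card {x : X // IsClosed ({x} : Set X) ∧ τ x = x} ≠ 0
    rw [hcard]; norm_num))
  have hFc : IsClosed F := by
    rw [← Set.biUnion_of_singleton F]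
    exact hF.isClosed_biUnion fun x hx => hx.1
  have hgen : genericPoint X ∉ F := fun h => genericPoint_ne_of_closed (k := k) hdim h.1 rfl
  have heq : τ = σ := by
    haveI : LocallyOfFiniteType (τ ≫ X ↘ Spec (CommRingCat.of k)) := by
      rw [← hf, ← Category.assoc, hτf, hf]; infer_instance
    refine ext_of_apply_eq (X ↘ Spec (CommRingCat.of k)) Fᶜ hFc.isOpen_compl.isLocallyClosed
      (dense_iff_closure_eq.2 (Set.univ_subset_iff.1 ?_)) (fun x hx hxc => ?_) ?_
    · rw [← genericPoint_closure (α := X)]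
      exact closure_mono (Set.singleton_subset_iff.2 hgen)
    · have hne : τ x ≠ x := fun h => hx ⟨hxc, h⟩
      have hc : IsClosed ({τ x} : Set X) := by
        haveI : IsIso τ := ⟨τ, hττ, hττ⟩
        rw [← Set.image_singleton]
        exact (Scheme.homeoOfIso (asIso τ)).isClosedMap _ hxc
      exact (hσtr x (τ x) hc (by rw [← Scheme.Hom.comp_apply, hτf]) hne.symm).symm
    · rw [hσp, ← hf, ← Category.assoc, hτf]
  obtain ⟨⟨A, hA, hτA⟩⟩ : Nonempty {x : X // IsClosed ({x} : Set X) ∧ τ x = x} :=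
    (Nat.card_pos_iff.1 (by rw [hcard]; norm_num)).1
  exact ⟨A, hA, (hiff A A hA hA).2 (by rw [← heq]; exact hτA)⟩

/-- An automorphism over the base pulls the ideal of the image of a point back to the ideal of the point. -/
theorem nonempty_pullback_pointIdeal (hdim : topologicalKrullDim X = 1) (σ : X ≅ X)
    (hσ : σ.hom ≫ (X ↘ Spec (CommRingCat.of k)) = X ↘ Spec (CommRingCat.of k))
    {A B : X} (hA : IsClosed ({A} : Set X)) (hB : IsClosed ({B} : Set X)) (hAB : σ.hom A = B) :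
    Nonempty ((Scheme.Modules.pullback σ.hom).obj (ClSub.idealMod (Scheme.IdealSheafData.vanishingIdeal ⟨{B}, hB⟩)) ≅
      ClSub.idealMod (Scheme.IdealSheafData.vanishingIdeal ⟨{A}, hA⟩)) := by
  haveI := isNoetherian_of_proper k X
  let p := X ↘ Spec (CommRingCat.of k)
  let a := pointOfClosedPoint p A hA
  let b := a ≫ σ.hom
  haveI : IsClosedImmersion a := isClosedImmersion_of_comp_eq_id p a (pointOfClosedPoint_comp p A hA)
  haveI : IsClosedImmersion b := inferInstanceAs (IsClosedImmersion (a ≫ σ.hom))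
  have hsq : IsPullback (𝟙 _) a b σ.hom := IsPullback.of_horiz_isIso ⟨by rw [Category.id_comp]⟩
  have hker : ∀ (c : Spec (CommRingCat.of k) ⟶ X) [IsClosedImmersion c] (C : X) (hC : IsClosed ({C} : Set X)),
      (∀ t, c t = C) → c.ker = Scheme.IdealSheafData.vanishingIdeal ⟨{C}, hC⟩ := fun c _ C hC hc => by
    rw [Nakai.ker_eq_vanishingIdeal]
    refine congrArg _ (Closeds.ext ?_)
    rw [Scheme.Hom.support_ker]
    show closure (Set.range c) = _
    rw [show Set.range c = {C} from Set.eq_singleton_iff_unique_mem.2 ⟨⟨IsLocalRing.closedPoint k, hc _⟩, by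
      rintro _ ⟨t, rfl⟩
      exact hc t⟩, hC.closure_eq]
    rfl
  have ha : ∀ t, a t = A := fun t => pointOfClosedPoint_apply p A hA t
  have hb : ∀ t, b t = B := fun t => by rw [Scheme.Hom.comp_apply, ha, hAB]
  have hcomap : (Scheme.IdealSheafData.vanishingIdeal ⟨{B}, hB⟩).comap σ.hom =
      Scheme.IdealSheafData.vanishingIdeal ⟨{A}, hA⟩ := by
    rw [← hker b B hB hb, ← AlmostBlow.ker_of_isPullback hsq, hker a A hA ha]
  have hJ : ∀ (C : X) (hC : IsClosed ({C} : Set X)),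
      BlowUp.IsEffCartierIdeal (Scheme.IdealSheafData.vanishingIdeal ⟨{C}, hC⟩) := fun C hC =>
    (Groth.Agent.S8914.result _).1 (isInvertible_pointIdeal hdim.le hC (genericPoint_ne_of_closed (k := k) hdim hC)
      (SmLocalST.isRegularLocalRing_stalk_of_smooth_field p C))
  obtain ⟨e⟩ := Nakai.nonempty_pullback_idealMod σ.hom (hJ B hB) (hcomap ▸ hJ A hA)
  exact ⟨e ≪≫ eqToIso (congrArg ClSub.idealMod hcomap)⟩

section Line

variable (f : X ⟶ CohB1.ProjSpace 1 k)

lemma eta_cst_smul (hf : f ≫ CohB1.ProjSpace.toSpec 1 k = X ↘ Spec (CommRingCat.of k))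
    (M : (CohB1.ProjSpace 1 k).Modules) (a : k) (s : Γ(M, ⊤)) :
    ProjMor.eta f M ⊤ (a • s) = (show Γ((Scheme.Modules.pullback f).obj M, ⊤) from
      a • (show Γ((Scheme.Modules.pullback f).obj M, ⊤) from ProjMor.eta f M ⊤ s)) := by
  rw [smul_def, ProjMor.eta_smul]
  exact congrArg (· • _) (CurveVA.app_cst f hf ⊤ a)

/-- The pullback of linear forms is a linear map on global sections. -/
def pullLin (hf : f ≫ CohB1.ProjSpace.toSpec 1 k = X ↘ Spec (CommRingCat.of k)) :
    Γ(Twist.twistProjSpace 1 k 1, ⊤) →ₗ[k] Γ(CurveVA.O1 f, ⊤) where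
  toFun s := ProjUP.pullSec f (Twist.twistProjSpace 1 k 1) s
  map_add' := map_add (ProjMor.eta f (Twist.twistProjSpace 1 k 1) ⊤)
  map_smul' a s := eta_cst_smul f hf _ a s

/-- Linear forms pull back injectively along a surjection onto the line. -/
theorem linearIndependent_coord [Surjective f] (hf : f ≫ CohB1.ProjSpace.toSpec 1 k = X ↘ Spec (CommRingCat.of k)) :
    LinearIndependent k fun i => pullLin f hf (ProjUP.coord 1 k i) := by
  haveI := Horrocks.isIntegral_projSpace (k := k) (n := 1)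
  haveI := ProjMor.isProper_toSpec 1 k
  haveI : IsProper (CohB1.ProjSpace 1 k ↘ Spec (CommRingCat.of k)) := ProjMor.isProper_toSpec 1 k
  rw [Fintype.linearIndependent_iff]
  intro c hc
  by_contra! hne
  have hc0 : c ≠ 0 := fun h => by simp [h] at hne
  have hpull : ProjMor.pull1 f (ProjMor.linForms_mem 1 k c) = 0 := by
    rw [ProjMor.pull1_linForms, hf]
    simp only [smul_def] at hc
    refine Eq.trans (Finset.sum_congr rfl fun i _ => ?_) hc
    exact congrArg (· • _) (QC.resO_self _ _).symm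
  have hout : ∀ x : X, f x ∉ Proj.basicOpen (CohB1.polyGrading 1 k) (ProjMor.linForms 1 k c) := fun x hx => by
    have h1 : x ∈ CohB1.genLocus (CurveVA.O1 f) (homOf (ProjMor.pull1 f (ProjMor.linForms_mem 1 k c))) := by
      rw [ProjMor.genLocus_pull1 (ProjMor.genDegOne_projSpace 1 k) f]
      exact hx
    rw [hpull, show homOf (0 : Γ(CurveVA.O1 f, ⊤)) = 0 from TMul.hom_ext_val (by
      rw [val_homOf, res_self]; rfl), TMul.genLocus_zero] at h1
    exact h1
  haveI := isNoetherian_of_proper k (CohB1.ProjSpace 1 k)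
  have hd : topologicalKrullDim (CohB1.ProjSpace 1 k) = 1 := Groth.Agent.S10829.result k 1
  obtain ⟨P, hP⟩ := W7OnePole.exists_closed_point (X := CohB1.ProjSpace 1 k)
  obtain ⟨x, hx⟩ := f.surjective P
  obtain ⟨z, hz⟩ := f.surjective (genericPoint (CohB1.ProjSpace 1 k))
  exact genericPoint_ne_of_closed (k := k) hd hP
    (hz.symm.trans ((eq_of_notMem_basicOpen c hc0 _ _ (hout z) (hout x)).trans hx))

end Line

/-- Two double covers of the line by a curve of genus one with the same pullback of `O(1)` differ by an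
automorphism of the line. -/
theorem exists_lineAut (hdim : topologicalKrullDim X = 1) (hg : Curv2.genus k X = 1)
    (f g : X ⟶ CohB1.ProjSpace 1 k) [Surjective f] [Surjective g]
    (hf : f ≫ CohB1.ProjSpace.toSpec 1 k = X ↘ Spec (CommRingCat.of k))
    (hgk : g ≫ CohB1.ProjSpace.toSpec 1 k = X ↘ Spec (CommRingCat.of k))
    (hdf : Curv2.deg k X (CurveVA.O1 f) 1 = 2) (ρ : CurveVA.O1 g ≅ CurveVA.O1 f) :
    ∃ τ : CohB1.ProjSpace 1 k ≅ CohB1.ProjSpace 1 k,
      τ.hom ≫ CohB1.ProjSpace.toSpec 1 k = CohB1.ProjSpace.toSpec 1 k ∧ g = f ≫ τ.hom := by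
  haveI := isNoetherian_of_proper k X
  haveI := Horrocks.isIntegral_projSpace (k := k) (n := 1)
  haveI := ProjMor.isProper_toSpec 1 k
  haveI : IsProper (CohB1.ProjSpace 1 k ↘ Spec (CommRingCat.of k)) := ProjMor.isProper_toSpec 1 k
  haveI := isNoetherian_of_proper k (CohB1.ProjSpace 1 k)
  let P := CohB1.ProjSpace 1 k
  let O := Twist.twistProjSpace 1 k 1
  have hO : PicF.IsInvertible O := CohFinite.isInvertible_twist 1 k 1
  -- dimensions
  have hn : ∀ {M : X.Modules}, PicF.IsInvertible M → Curv2.deg k X M 1 = 2 → Module.finrank k Γ(M, ⊤) = 2 :=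
    fun {M} hM hd => by
      have := h0_eq_of_deg (k := k) hdim.le (h0_structure k X) hM (by rw [hd, hg]; norm_num)
      rw [finrank_sec M]
      rw [hd, hg] at this
      omega
  have hnP : Module.finrank k Γ(O, ⊤) = 2 := by
    rw [finrank_sec O]
    exact (P1Split.finrank_twist (k := k) 1).trans rfl
  haveI : Module.Finite k Γ(CurveVA.O1 f, ⊤) := Module.finite_of_finrank_pos (by rw [hn (CurveVA.isInvertible_O1 f) hdf]; norm_num)
  haveI : Module.Finite k Γ(O, ⊤) := Module.finite_of_finrank_pos (by rw [hnP]; norm_num)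
  have hli := linearIndependent_coord f hf
  have hliP : LinearIndependent k fun i => (ProjUP.coord 1 k i : Γ(O, ⊤)) := LinearIndependent.of_comp (pullLin f hf) hli
  have hinj : Function.Injective (pullLin f hf) := by
    refine LinearMap.ker_eq_bot.1 (LinearMap.ker_eq_bot'.2 fun s hs => ?_)
    obtain ⟨c, rfl⟩ := (Submodule.mem_span_range_iff_exists_fun k).1
      ((hliP.span_eq_top_of_card_eq_finrank (by rw [hnP, Fintype.card_fin])).ge (Submodule.mem_top (x := s)))
    rw [map_sum] at hs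
    simp only [map_smul] at hs
    simp [Fintype.linearIndependent_iff.1 hli c hs]
  let Φ : Γ(O, ⊤) ≃ₗ[k] Γ(CurveVA.O1 f, ⊤) :=
    LinearEquiv.ofBijective (pullLin f hf) ⟨hinj,
      (LinearMap.injective_iff_surjective_of_finrank_eq_finrank (by rw [hnP, hn (CurveVA.isInvertible_O1 f) hdf])).1 hinj⟩
  have hρlin : ∀ (a : k) (s : Γ(CurveVA.O1 g, ⊤)), ρ.hom.app ⊤ (a • s) = a • (show Γ(CurveVA.O1 f, ⊤) from ρ.hom.app ⊤ s) :=
    fun a s => TMul.app_smul _ _ _
  let ρl : Γ(CurveVA.O1 g, ⊤) →ₗ[k] Γ(CurveVA.O1 f, ⊤) :=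
    { toFun := fun s => ρ.hom.app ⊤ s
      map_add' := map_add (ρ.hom.app ⊤).hom
      map_smul' := hρlin }
  have hρinj : Function.Injective ρl := (ConcreteCategory.bijective_of_isIso (ρ.hom.app ⊤)).1
  let v : Fin 2 → Γ(O, ⊤) := fun i => Φ.symm (ρl (pullLin g hgk (ProjUP.coord 1 k i)))
  have hv : LinearIndependent k v :=
    ((linearIndependent_coord g hgk).map' ρl (LinearMap.ker_eq_bot.2 hρinj)).map' Φ.symm.toLinearMap Φ.symm.ker
  let b : Module.Basis (Fin 2) k Γ(O, ⊤) := basisOfLinearIndependentOfCardEqFinrank hv (by rw [hnP, Fintype.card_fin])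
  have hb : ∀ i, b i = v i := fun i => congrFun (coe_basisOfLinearIndependentOfCardEqFinrank hv _) i
  obtain ⟨t, ht, θ, hθ⟩ := ProjMor.exists_projSpace (n := 1) (R := k) (CohB1.ProjSpace.toSpec 1 k) hO (fun i => b i)
    (CurveVA.generatedBy_of_basis b fun y => by
      obtain ⟨j, hj⟩ := P1Split.exists_mem_U (k := k) y
      let e := (Scheme.Modules.pullbackId P).app O
      refine ⟨e.hom.app ⊤ (ProjMor.pull1 (𝟙 P) (ProjMor.linForms_mem 1 k (Pi.single j 1))), ?_⟩
      erw [ProjMor.homOf_app, TMul.genLocus_comp, ProjMor.genLocus_pull1 (ProjMor.genDegOne_projSpace 1 k) (𝟙 P)]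
      show y ∈ Proj.basicOpen _ (ProjMor.linForms 1 k (Pi.single j 1))
      rw [ProjMor.linForms_single]
      exact hj)
  -- `t` is an isomorphism
  have hdt : Curv2.deg k P (CurveVA.O1 t) 1 = 1 := by
    exact (W7Slope.deg_iso (k := k) θ 1).trans W7Cover.deg_twist_one
  have hd : topologicalKrullDim P = 1 := Groth.Agent.S10829.result k 1
  obtain ⟨hfin, hflat, -, hr, hrk⟩ := W7Cover.cover_facts t hd ht (by rw [hdt]; norm_num)
  haveI := hfin
  haveI := hflat
  haveI : IsIso t := by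
    rw [t.isIso_iff_finrank_eq]
    funext y
    rw [hrk y]
    have : (t.residueDegree (genericPoint P) : ℤ) = 1 := hr.trans hdt
    exact_mod_cast this
  refine ⟨asIso t, ht, ?_⟩
  symm
  refine ProjMor.eq_of_iso_projSpace (f ≫ t) g (by rw [Category.assoc, ht, hf, hgk])
    (((ModDesc.trIso f t rfl).app O).symm ≪≫ (Scheme.Modules.pullback f).mapIso θ ≪≫ ρ.symm) fun i => ?_
  have h1 := ModDesc.tr_pullSectLE f t (rfl : f ≫ t = f ≫ t) O (le_top : (⊤ : P.Opens) ≤ t ⁻¹ᵁ ⊤)
    (le_top : (⊤ : X.Opens) ≤ f ⁻¹ᵁ ⊤) le_top (ProjUP.coord 1 k i)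
  have hp : ∀ {Y Z : Scheme.{u}} (q : Y ⟶ Z) (M : Z.Modules) (s : Γ(M, ⊤)) (e : (⊤ : Y.Opens) ≤ q ⁻¹ᵁ ⊤),
      ModDesc.pullSectLE q M ⊤ ⊤ e s = ProjUP.pullSec q M s := fun q M s e => res_self _ _ _
  rw [ModDesc.tr_apply, hp, hp, hp] at h1
  rw [← h1]
  show ρ.inv.app ⊤ (((Scheme.Modules.pullback f).map θ.hom).app ⊤ ((((ModDesc.trIso f t rfl).inv.app O).app ⊤)
    (((ModDesc.trIso f t rfl).hom.app O).app ⊤ _))) = _
  have h3 : ∀ w, (((ModDesc.trIso f t (rfl : f ≫ t = f ≫ t)).inv.app O).app ⊤)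
      ((((ModDesc.trIso f t rfl).hom.app O).app ⊤) w) = w := fun w =>
    congrArg (fun φ => (φ.app (⊤ : X.Opens)) w) ((ModDesc.trIso f t rfl).hom_inv_id_app O)
  rw [h3]
  have h4 : ((Scheme.Modules.pullback f).map θ.hom).app ⊤ (ProjUP.pullSec f _ (ProjUP.pullSec t O (ProjUP.coord 1 k i))) =
      ProjUP.pullSec f O (θ.hom.app ⊤ (ProjUP.pullSec t O (ProjUP.coord 1 k i))) :=
    (congrArg (fun φ => (φ.app (⊤ : P.Opens)) (ProjUP.pullSec t O (ProjUP.coord 1 k i)))
      ((Scheme.Modules.pullbackPushforwardAdjunction f).unit.naturality θ.hom)).symm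
  refine (congrArg (ρ.inv.app ⊤) (h4.trans (congrArg (ProjUP.pullSec f O) ((hθ i).trans (hb i))))).trans ?_
  show ρ.inv.app ⊤ (Φ (Φ.symm (ρl (pullLin g hgk (ProjUP.coord 1 k i))))) = _
  rw [LinearEquiv.apply_symm_apply]
  exact congrArg (fun φ => (φ.app (⊤ : X.Opens)) (ProjUP.pullSec g O (ProjUP.coord 1 k i))) ρ.hom_inv_id

/-- Two maps of degree two from a curve of genus one to the line differ by automorphisms. -/
theorem exists_auts_of_double_covers (h2 : (2 : k) ≠ 0) (hdim : topologicalKrullDim X = 1) (hg : Curv2.genus k X = 1)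
    (f₁ f₂ : X ⟶ CohB1.ProjSpace 1 k) [IsFinite f₁] [IsFinite f₂] [Flat f₁] [Flat f₂]
    (hf₁ : f₁ ≫ CohB1.ProjSpace.toSpec 1 k = X ↘ Spec (CommRingCat.of k))
    (hf₂ : f₂ ≫ CohB1.ProjSpace.toSpec 1 k = X ↘ Spec (CommRingCat.of k))
    (hr₁ : ∀ y, f₁.finrank y = 2) (hr₂ : ∀ y, f₂.finrank y = 2) :
    ∃ (σ : X ≅ X) (τ : CohB1.ProjSpace 1 k ≅ CohB1.ProjSpace 1 k),
      σ.hom ≫ (X ↘ Spec (CommRingCat.of k)) = X ↘ Spec (CommRingCat.of k) ∧
      τ.hom ≫ CohB1.ProjSpace.toSpec 1 k = CohB1.ProjSpace.toSpec 1 k ∧ σ.hom ≫ f₂ = f₁ ≫ τ.hom := by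
  haveI := isNoetherian_of_proper k X
  haveI := Horrocks.isIntegral_projSpace (k := k) (n := 1)
  haveI : Surjective f₁ := f₁.one_le_finrank_iff_surjective.1 fun y => by rw [hr₁ y]; exact one_le_two
  haveI : Surjective f₂ := f₂.one_le_finrank_iff_surjective.1 fun y => by rw [hr₂ y]; exact one_le_two
  have hd : ∀ (f : X ⟶ CohB1.ProjSpace 1 k) [IsFinite f] [Flat f],
      f ≫ CohB1.ProjSpace.toSpec 1 k = X ↘ Spec (CommRingCat.of k) → (∀ y, f.finrank y = 2) →
        Curv2.deg k X (CurveVA.O1 f) 1 = 2 := fun f _ _ hf hr => by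
    rw [(W7Pencil.deg_O1_of_cover f hdim hf).2, W7Pencil.residueDegree_of_finrank f hdim hf hr]
    rfl
  obtain ⟨A₁, hA₁, ⟨e₁⟩⟩ := exists_double_point h2 hdim hg (CurveVA.isInvertible_O1 f₁) (hd f₁ hf₁ hr₁)
  obtain ⟨A₂, hA₂, ⟨e₂⟩⟩ := exists_double_point h2 hdim hg (CurveVA.isInvertible_O1 f₂) (hd f₂ hf₂ hr₂)
  obtain ⟨σ, hσ, -, hσA, -⟩ := exists_swap hdim hg A₁ A₂ hA₁ hA₂
  let I₁ := ClSub.idealMod (Scheme.IdealSheafData.vanishingIdeal ⟨{A₁}, hA₁⟩)
  let I₂ := ClSub.idealMod (Scheme.IdealSheafData.vanishingIdeal ⟨{A₂}, hA₂⟩)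
  obtain ⟨θ⟩ := nonempty_pullback_pointIdeal hdim σ hσ hA₁ hA₂ hσA
  obtain ⟨a⟩ := TMul.nonempty_pullTensorIso σ.hom I₂ (CohB1.tensorMod I₂ (CurveVA.O1 f₂))
  obtain ⟨a'⟩ := TMul.nonempty_pullTensorIso σ.hom I₂ (CurveVA.O1 f₂)
  let M := (Scheme.Modules.pullback σ.hom).obj (CurveVA.O1 f₂)
  let c₂ : CohB1.tensorMod I₁ (CohB1.tensorMod I₁ M) ≅ Coh.structureModule X :=
    PicGrp.tensorModIso θ.symm (PicGrp.tensorModIso θ.symm (Iso.refl _) ≪≫ a') ≪≫ a ≪≫
      (Scheme.Modules.pullback σ.hom).mapIso e₂ ≪≫ PicLoc.pullbackStructureIso σ.hom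
  let J := CohB1.tensorMod I₁ I₁
  let d₁ : CohB1.tensorMod J (CurveVA.O1 f₁) ≅ Coh.structureModule X := TMul.assocIso _ _ _ ≪≫ e₁
  let d₂ : CohB1.tensorMod J M ≅ Coh.structureModule X := TMul.assocIso _ _ _ ≪≫ c₂
  let u : M ≅ CurveVA.O1 f₁ :=
    (TMul.leftUnitIso M).symm ≪≫ PicGrp.tensorModIso (d₁.symm ≪≫ TMul.commIso _ _) (Iso.refl M) ≪≫
      TMul.assocIso _ _ _ ≪≫ PicGrp.tensorModIso (Iso.refl _) d₂ ≪≫ TMul.commIso _ _ ≪≫ TMul.leftUnitIso _
  haveI : Surjective (σ.hom ≫ f₂) := inferInstance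
  obtain ⟨τ, hτ, he⟩ := exists_lineAut hdim hg f₁ (σ.hom ≫ f₂) hf₁ (by rw [Category.assoc, hf₂, hσ]) (hd f₁ hf₁ hr₁)
    (((ModDesc.trIso σ.hom f₂ rfl).app (Twist.twistProjSpace 1 k 1)).symm ≪≫ u)
  exact ⟨σ, τ, hσ, hτ, he⟩

end Groth.Agent.GenusOneInvol

end
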